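import Cfsg.Agent.Blocks.BrauerBasis.Simples
import Cfsg.Agent.Blocks.KLSum.UnionRank
import Cfsg.Agent.Blocks.Defect.Lifts
import Cfsg.Agent.Blocks.HeightZero.RegularPair
import Cfsg.Agent.Eq.Def_BlockRank

/-!
# A permuted basis of the regular functions of a group, adapted to the blocks

`exists_basis`: class functions `θ i` with local values on a finite group, reducing to the traces
of the simple modules, each belonging modulo `M` to one block `b i`; a block `B` owns `blockRank p B`
of them, every family congruent to them is independent on the regular elements, and every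
automorphism permutes them.
-/

set_option autoImplicit false
open scoped MonoidAlgebra
open MonoidAlgebra (single)
open Cfsg CfsgLib.Blocks

namespace CfsgLib.Blocks.BrauerBasis

universe u

variable {H : Type u} [Group H] [Fintype H] {p : ℕ} {M : Ideal AlgInt}

/-- A basis of the regular functions adapted to the blocks. -/
theorem exists_basis [M.IsMaximal] (hM : IsPModular p M) :
    ∃ (n : ℕ) (θ : Fin n → H → ℂ) (b : Fin n → Set (IrrCharacter H)),
      (∀ i, IsClassFunction H (θ i)) ∧ (∀ i g, MemLocalRing M (θ i g)) ∧ (∀ i, IsPBlock M (b i)) ∧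
      (∀ i B, IsPBlock M B → ∀ s, MemLocalRing M (blockPart B (θ i) s)) ∧
      (∀ i B, IsPBlock M B → ∀ s, IsPRegular p s →
        (B = b i → redC M (blockPart B (θ i) s) = redC M (θ i s)) ∧
        (B ≠ b i → redC M (blockPart B (θ i) s) = 0)) ∧
      (∀ B, IsPBlock M B → blockRank p B = Nat.card {i // b i = B}) ∧
      (∀ v : Fin n → H → ℂ,
        (∀ i s, IsPRegular p s → MemLocalRing M (v i s) ∧ redC M (v i s) = redC M (θ i s)) →
        ∀ a : Fin n → ℂ, (∀ s, IsPRegular p s → ∑ i, a i * v i s = 0) → a = 0) ∧
      (∀ α : H ≃* H, ∃ π : Equiv.Perm (Fin n), ∀ i g, θ i (α g) = θ (π i) g) := by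
  classical
  haveI : Fact p.Prime := ⟨hM.1⟩
  haveI := charP_kres hM
  obtain ⟨n, t, e, htc, he, htb, hli, hspan, hperm⟩ :=
    exists_simples (k := kres M) (p := p) (G := H)
  choose eb hebB heb using fun i => exists_topEl_eq (M := M) (he i)
  choose lift hlift using res_surjective (M := M)
  let θ : Fin n → H → ℂ := fun i g => (lift (t i g) : ℂ)
  have hθl : ∀ i g, MemLocalRing M (θ i g) := fun i g => (lift (t i g)).2
  have hθr : ∀ i g, redC M (θ i g) = t i g := fun i g => by
    rw [redC_of_mem (hθl i g)]
    exact hlift _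
  have hθc : ∀ i, IsClassFunction H (θ i) := fun i x y => by simp only [θ, htc]
  have hloc : ∀ B, IsPBlock M B → ∀ i s h, MemLocalRing M (blockCoeff B h * θ i (h * s)) :=
    fun B hB i s h => (localRing M).mul_mem (memLocalRing_blockCoeff hB h) (hθl i _)
  have hpart : ∀ i B, IsPBlock M B → ∀ s, MemLocalRing M (blockPart B (θ i) s) ∧
      redC M (blockPart B (θ i) s) = ∑ h : H, (topEl M B).coeff h * t i (h * s) := by
    intro i B hB s
    rw [blockPart_eq_sum_blockCoeff B (hθc i)]
    refine ⟨(localRing M).sum_mem fun h _ => hloc B hB i s h, ?_⟩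
    rw [redC_sum _ _ fun h _ => hloc B hB i s h]
    refine Finset.sum_congr rfl fun h _ => ?_
    have h1 := memLocalRing_blockCoeff hB h
    have h2 := hθl i (h * s)
    rw [coeff_topEl, ← hθr i, redC_of_mem h1, redC_of_mem h2, redC_of_mem (hloc B hB i s h),
      ← map_mul]
    rfl
  have hblock : ∀ i B, IsPBlock M B → ∀ s, IsPRegular p s →
      (B = eb i → redC M (blockPart B (θ i) s) = redC M (θ i s)) ∧
      (B ≠ eb i → redC M (blockPart B (θ i) s) = 0) := by
    intro i B hB s _
    rw [(hpart i B hB s).2, hθr]
    obtain ⟨h1, h2⟩ := htb i (topEl M B) (isBlockIdem_topEl hB) s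
    exact ⟨fun h => h1 (by rw [h, heb]), fun h => h2 fun h' =>
      h (topEl_injective hB (hebB i) (h'.trans (heb i).symm))⟩
  -- selection of regular points
  obtain ⟨sel, hsel⟩ : ∃ sel : Fin n → {g : H // IsPRegular p g},
      (Matrix.of fun i j => t i (sel j)).det ≠ 0 := by
    let A : Matrix (Fin n) {g : H // IsPRegular p g} (kres M) := Matrix.of fun i g => t i g
    have hA : LinearIndependent (kres M) A.row := by
      rw [Fintype.linearIndependent_iff]
      intro c hc
      refine congrFun (hli c fun g hg => ?_)
      have := congrFun hc ⟨g, hg⟩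
      simpa [A] using this
    have hspanA : Submodule.span (kres M) (Set.range A.col) = ⊤ := by
      apply Submodule.eq_top_of_finrank_eq
      rw [Module.finrank_fintype_fun_eq_card, ← Matrix.rank_eq_finrank_span_cols, hA.rank_matrix]
    obtain ⟨κ, emb', -, hspan', hli'⟩ := exists_linearIndependent' (kres M) A.col
    rw [hspanA] at hspan'
    have : Finite κ := hli'.finite
    have : Fintype κ := Fintype.ofFinite κ
    have hcard : Fintype.card κ = n := by
      rw [← Fintype.card_fin n, ← Module.finrank_fintype_fun_eq_card (kres M) (η := Fin n),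
        ← finrank_top (kres M) (Fin n → kres M), ← hspan', finrank_span_eq_card hli']
    let e' : Fin n ≃ κ := (Fintype.equivFinOfCardEq hcard).symm
    refine ⟨emb' ∘ e', ?_⟩
    have hu : LinearIndependent (kres M) (Matrix.of fun i j => t i ((emb' ∘ e') j)).col :=
      hli'.comp e' e'.injective
    exact ((Matrix.isUnit_iff_isUnit_det _).1
      (Matrix.linearIndependent_cols_iff_isUnit.1 hu)).ne_zero
  have hindep : ∀ v : Fin n → H → ℂ,
      (∀ i s, IsPRegular p s → MemLocalRing M (v i s) ∧ redC M (v i s) = redC M (θ i s)) →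
      ∀ a : Fin n → ℂ, (∀ s, IsPRegular p s → ∑ i, a i * v i s = 0) → a = 0 := by
    intro v hv a ha
    let L : Matrix (Fin n) (Fin n) (localRing M) := Matrix.of fun i j =>
      ⟨v i (sel j), (hv i _ (sel j).2).1⟩
    have h2 : L.map (res M) = Matrix.of fun i j => t i (sel j) := by
      ext i j
      simp only [Matrix.map_apply, L, Matrix.of_apply]
      rw [← redC_of_mem (hv i _ (sel j).2).1, (hv i _ (sel j).2).2, hθr]
    have h3 : res M L.det ≠ 0 := by
      rw [RingHom.map_det]
      show (L.map (res M)).det ≠ 0
      rw [h2]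
      exact hsel
    have h4 : (L.map (localRing M).subtype).det ≠ 0 := by
      show ((localRing M).subtype.mapMatrix L).det ≠ 0
      rw [← RingHom.map_det]
      intro h0
      apply h3
      rw [(Subtype.ext (by simpa using h0) : L.det = 0), map_zero]
    by_contra hne
    refine h4 (Matrix.exists_vecMul_eq_zero_iff.1 ⟨a, hne, funext fun j => ?_⟩)
    exact ha _ (sel j).2
  -- the count
  let R := {C : ConjClasses H // IsPRegular p C.out}
  have hRrep : ∀ g : H, IsPRegular p g → IsPRegular p (ConjClasses.mk g).out ∧
      IsConj g (ConjClasses.mk g).out := by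
    intro g hg
    have hc : IsConj g (ConjClasses.mk g).out :=
      ConjClasses.mk_eq_mk_iff_isConj.1 (Quotient.out_eq _).symm
    obtain ⟨c, hc'⟩ := isConj_iff.1 hc
    exact ⟨by rw [← hc']; exact (isPRegular_conj_iff c g).2 hg, hc⟩
  haveI : Fintype R := Fintype.ofFinite R
  have hR : Fintype.card R ≤ n := by
    let ev : (Fin n → kres M) →ₗ[kres M] (R → kres M) :=
      { toFun := fun a C => ∑ i, a i * t i C.1.out
        map_add' := fun a a' => by funext C; simp [add_mul, Finset.sum_add_distrib]
        map_smul' := fun r a => by funext C; simp [Finset.mul_sum, mul_assoc] }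
    have hev : Function.Surjective ev := by
      intro f
      obtain ⟨a, ha⟩ := hspan
        (fun g => if hg : IsPRegular p (ConjClasses.mk g).out then f ⟨_, hg⟩ else 0)
        (fun g h => by
          have : ConjClasses.mk (h * g * h⁻¹) = ConjClasses.mk g :=
            ConjClasses.mk_eq_mk_iff_isConj.2 (isConj_iff.2 ⟨h⁻¹, by group⟩)
          simp only [this])
      refine ⟨a, funext fun C => ?_⟩
      have h := ha C.1.out C.2
      have hC : ConjClasses.mk C.1.out = C.1 := Quotient.out_eq _
      simp only [hC] at h
      rw [dif_pos C.2] at h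
      exact h.symm
    have h := LinearMap.finrank_le_finrank_of_injective (f := ev.dualMap)
      (LinearMap.dualMap_injective_of_surjective hev)
    rw [Subspace.dual_finrank_eq, Subspace.dual_finrank_eq,
      Module.finrank_fintype_fun_eq_card, Module.finrank_fintype_fun_eq_card,
      Fintype.card_fin] at h
    exact h
  haveI := CfsgLib.Blocks.finite_irrCharacter (G := H)
  haveI := Fintype.ofFinite (IrrCharacter H)
  let blocks : Finset (Set (IrrCharacter H)) :=
    Finset.univ.image fun ψ : IrrCharacter H => blockOf M (ψ : H → ℂ)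
  have hblocks : ∀ B, B ∈ blocks ↔ IsPBlock M B := by
    intro B
    refine ⟨fun h => ?_, fun ⟨ψ, h⟩ => Finset.mem_image.2 ⟨ψ, Finset.mem_univ _, h.symm⟩⟩
    obtain ⟨ψ, _, rfl⟩ := Finset.mem_image.1 h
    exact ⟨ψ, rfl⟩
  have hle : ∀ B, IsPBlock M B → Nat.card {i // eb i = B} ≤ blockRank p B := by
    intro B hB
    rw [KLSum.blockRank_eq_finrank, Nat.card_eq_fintype_card]
    let w : {i // eb i = B} → KLSum.regSpan p B := fun i =>
      ⟨pRegularPart p (blockPart B (θ i)), pRegularPart_blockPart_mem B (θ i)⟩
    haveI : Module.Finite ℂ (KLSum.regSpan p B) :=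
      Module.Finite.span_of_finite ℂ (Set.toFinite _)
    refine LinearIndependent.fintype_card_le_finrank (b := w) ?_
    rw [Fintype.linearIndependent_iff]
    intro c hc i
    let v : Fin n → H → ℂ := fun j => if eb j = B then blockPart B (θ j) else θ j
    have hv : ∀ j s, IsPRegular p s → MemLocalRing M (v j s) ∧
        redC M (v j s) = redC M (θ j s) := by
      intro j s hs
      by_cases hj : eb j = B
      · simp only [v, if_pos hj]
        exact ⟨(hpart j B hB s).1, (hblock j B hB s hs).1 hj.symm⟩
      · simp only [v, if_neg hj, and_true]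
        exact hθl j s
    have h0 := hindep v hv (fun j => if h : eb j = B then c ⟨j, h⟩ else 0) fun s hs => ?_
    · have := congrFun h0 i.1
      simpa [i.2] using this
    · have h1 := congrFun (congrArg Subtype.val hc) s
      simp only [AddSubmonoidClass.coe_finsetSum, SetLike.val_smul, Finset.sum_apply,
        Pi.smul_apply, smul_eq_mul, w, ZeroMemClass.coe_zero, Pi.zero_apply] at h1
      refine Eq.trans ?_ h1
      rw [← Finset.sum_subset (Finset.subset_univ (Finset.univ.filter fun j => eb j = B))
        (fun j _ hj => by simp at hj; simp [hj]), Finset.sum_subtype (p := fun j => eb j = B) _ (by simp)]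
      refine Finset.sum_congr rfl fun j _ => ?_
      simp [v, j.2, pRegularPart, hs]
  have htot : ∑ B ∈ blocks, blockRank p B ≤ n := by
    rw [← KLSum.blockRank_biUnion hM blocks fun B hB => (hblocks B).1 hB, KLSum.blockRank_eq_finrank]
    set S := KLSum.regSpan p {ψ : IrrCharacter H | ∃ b ∈ blocks, ψ ∈ b} with hS
    have hprop : ∀ f ∈ S, IsClassFunction H f ∧ ∀ g, ¬ IsPRegular p g → f g = 0 := by
      intro f hf
      induction hf using Submodule.span_induction with
      | mem x hx =>
        obtain ⟨χ, _, rfl⟩ := hx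
        exact ⟨isClassFunction_pRegularPart (Chars.isClassFunction_coe χ),
          fun g hg => by simp [pRegularPart, hg]⟩
      | zero => exact ⟨fun _ _ => rfl, fun _ _ => rfl⟩
      | add x y _ _ hx hy =>
        exact ⟨fun g h => by simp [hx.1 g h, hy.1 g h], fun g hg => by simp [hx.2 g hg, hy.2 g hg]⟩
      | smul r x _ hx => exact ⟨fun g h => by simp [hx.1 g h], fun g hg => by simp [hx.2 g hg]⟩
    let φ : S →ₗ[ℂ] (R → ℂ) := (LinearMap.funLeft ℂ ℂ fun C : R => C.1.out).comp S.subtype
    have hφ : Function.Injective φ := by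
      rw [← LinearMap.ker_eq_bot, LinearMap.ker_eq_bot']
      intro f hf
      refine Subtype.ext (funext fun g => ?_)
      by_cases hg : IsPRegular p g
      · obtain ⟨h1, h2⟩ := hRrep g hg
        obtain ⟨c, hc⟩ := isConj_iff.1 h2
        show (f : H → ℂ) g = 0
        rw [← (hprop f f.2).1 g c, hc]
        exact congrFun hf ⟨_, h1⟩
      · exact (hprop f f.2).2 g hg
    have h := LinearMap.finrank_le_finrank_of_injective hφ
    rw [Module.finrank_fintype_fun_eq_card] at h
    exact h.trans hR
  have hsum : ∑ B ∈ blocks, Nat.card {i // eb i = B} = n := by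
    rw [Finset.sum_congr rfl fun B _ => by rw [Nat.card_eq_fintype_card, Fintype.card_subtype],
      ← Finset.card_eq_sum_card_fiberwise (s := Finset.univ) fun i _ => (hblocks _).2 (hebB i),
      Finset.card_univ, Fintype.card_fin]
  have heq : ∀ B, IsPBlock M B → blockRank p B = Nat.card {i // eb i = B} := by
    intro B hB
    have h1 : ∀ C ∈ blocks, Nat.card {i // eb i = C} ≤ blockRank p C :=
      fun C hC => hle C ((hblocks C).1 hC)
    exact (((Finset.sum_eq_sum_iff_of_le h1).1
      (le_antisymm (Finset.sum_le_sum h1) (htot.trans hsum.ge))) B ((hblocks B).2 hB)).symm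
  refine ⟨n, θ, eb, hθc, hθl, hebB, fun i B hB s => (hpart i B hB s).1, hblock, heq, hindep,
    fun α => ?_⟩
  obtain ⟨π, hπ⟩ := hperm α
  exact ⟨π, fun i g => by simp only [θ, hπ]⟩

end CfsgLib.Blocks.BrauerBasis
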