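import Cfsg.Agent.CharTable.InvariantMatrix
import Mathlib.Algebra.MonoidAlgebra.Basic
import Mathlib.GroupTheory.Perm.Fin
import Mathlib.FieldTheory.Finite.Basic
import Mathlib.Algebra.CharP.Lemmas
import Mathlib.Algebra.CharP.Frobenius

/-!
# Symmetric functionals and `p`-th powers in a group algebra

In characteristic `p` a symmetric functional `L` on a group algebra satisfies
`L (a ^ p) = ∑ (a g) ^ p * L (g ^ p)`.  Hence a class function which only depends on the
`p'`-part of an element kills every nilpotent element.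
-/

set_option autoImplicit false
open scoped MonoidAlgebra
open MonoidAlgebra (single)

namespace CfsgLib.Blocks.BrauerBasis

variable {k : Type*} [Field k] {G : Type*} [Group G] [Fintype G]

/-- The expansion of a power in a group algebra. -/
theorem pow_eq_sum_fn (a : k[G]) (n : ℕ) :
    a ^ n = ∑ x : Fin n → G, (∏ i, a.coeff (x i)) • single (List.ofFn x).prod (1 : k) := by
  classical
  induction n with
  | zero => simp [MonoidAlgebra.one_def]
  | succ n ih =>
    have ha : a = ∑ g : G, a.coeff g • single g (1 : k) := by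
      refine MonoidAlgebra.ext (Finsupp.ext fun x => ?_)
      rw [MonoidAlgebra.coeff_sum, Finsupp.finsetSum_apply, Finset.sum_eq_single x]
      · simp
      · intro b _ hb
        simp [Finsupp.single_apply, hb]
      · simp
    rw [pow_succ', ih]
    conv_lhs => rw [ha]
    rw [Finset.sum_mul_sum, ← Fintype.sum_prod_type']
    refine Fintype.sum_equiv (Fin.consEquiv fun _ => G) _ _ fun ⟨g, x⟩ => ?_
    rw [smul_mul_smul_comm, MonoidAlgebra.single_mul_single, one_mul]
    simp [Fin.prod_univ_succ, List.ofFn_succ]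

variable {p : ℕ} [Fact p.Prime] [CharP k p]

/-- **Frobenius property of symmetric functionals.** -/
theorem apply_pow_char (L : k[G] →ₗ[k] k) (hL : ∀ a b, L (a * b) = L (b * a)) (a : k[G]) :
    L (a ^ p) = ∑ g : G, a.coeff g ^ p * L (single (g ^ p) 1) := by
  classical
  have hp := (Fact.out : p.Prime)
  let w : (Fin p → G) → k := fun x =>
    (∏ i, a.coeff (x i)) * L (single (List.ofFn x).prod 1)
  have hLsum : L (a ^ p) = ∑ x, w x := by
    rw [pow_eq_sum_fn, map_sum]
    exact Finset.sum_congr rfl fun x _ => by rw [map_smul, smul_eq_mul]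
  -- the cyclic action
  let r : Equiv.Perm (Fin p) := finRotate p
  haveI : NeZero p := ⟨hp.ne_zero⟩
  let P : Subgroup (Equiv.Perm (Fin p)) := Subgroup.zpowers r
  have hpow : ∀ (m : ℕ) (j : Fin p), ((r ^ m) j).val = (j.val + m) % p := by
    intro m
    induction m with
    | zero => intro j; simp [Nat.mod_eq_of_lt j.isLt]
    | succ m ih =>
      intro j
      rw [pow_succ', Equiv.Perm.mul_apply, finRotate_apply, Fin.val_add, ih, Fin.val_one',
        ← Nat.add_mod, add_assoc]
  have hrord : r ^ p = 1 := by
    ext i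
    rw [hpow, Nat.add_mod_right, Nat.mod_eq_of_lt i.isLt, Equiv.Perm.one_apply]
  have hP : IsPGroup p P := by
    rw [IsPGroup.iff_card]
    have hd : Nat.card P ∣ p ^ 1 := by
      rw [Nat.card_zpowers, pow_one]
      exact orderOf_dvd_of_pow_eq_one hrord
    obtain ⟨i, -, hi⟩ := (Nat.dvd_prime_pow hp).1 hd
    exact ⟨i, hi⟩
  letI : MulAction P (Fin p → G) :=
    { smul := fun π x => fun i => x ((π : Equiv.Perm (Fin p))⁻¹ i)
      one_smul := fun x => rfl
      mul_smul := fun π ρ x => rfl }
  have hact : ∀ (π : P) (x : Fin p → G) i, (π • x) i = x ((π : Equiv.Perm (Fin p))⁻¹ i) :=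
    fun _ _ _ => rfl
  -- invariance under one rotation
  have hrot : ∀ x : Fin p → G, w (fun i => x (r i)) = w x := by
    intro x
    simp only [w]
    rw [Equiv.prod_comp r fun i => a.coeff (x i)]
    congr 1
    obtain ⟨q, rfl⟩ : ∃ q, p = q + 1 := ⟨p - 1, by have := hp.pos; omega⟩
    have e1 : (List.ofFn fun i => x (r i)).prod =
        (List.ofFn fun i : Fin q => x i.succ).prod * x 0 := by
      rw [List.ofFn_succ', List.prod_concat]
      have h1 : ∀ i : Fin q, r i.castSucc = i.succ := fun i => by
        simp [r, finRotate_succ_apply, Fin.coeSucc_eq_succ]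
      have h2 : r (Fin.last q) = 0 := finRotate_last
      simp only [h1, h2]
    rw [e1, List.ofFn_succ, List.prod_cons]
    set y := (List.ofFn fun i : Fin q => x i.succ).prod
    rw [show single (y * x 0) (1 : k) = single y 1 * single (x 0) 1 by
        rw [MonoidAlgebra.single_mul_single, mul_one],
      hL, MonoidAlgebra.single_mul_single, mul_one]
  have hrotm : ∀ (m : ℕ) (x : Fin p → G), w (fun i => x ((r ^ m) i)) = w x := by
    intro m
    induction m with
    | zero => intro x; rfl
    | succ m ih =>
      intro x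
      rw [show (fun i => x ((r ^ (m + 1)) i)) = fun i => (fun j => x ((r ^ m) j)) (r i) by
        funext i; rw [pow_succ, Equiv.Perm.mul_apply]]
      exact (hrot (fun j => x ((r ^ m) j))).trans (ih x)
  have hinv : ∀ (π : P) (x : Fin p → G), w (π • x) = w x := by
    rintro ⟨π, hπ⟩ x
    obtain ⟨m, hm⟩ := (Submonoid.mem_powers_iff _ _).1 (mem_powers_iff_mem_zpowers.2
      (Subgroup.inv_mem _ hπ))
    rw [← hrotm m x]
    congr 1
    funext i
    rw [hact, hm]
  haveI : Fintype (MulAction.fixedPoints P (Fin p → G)) := Fintype.ofFinite _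
  rw [hLsum, CfsgLib.CharTable.sum_eq_sum_fixedPoints hP w hinv]
  let e : G ≃ MulAction.fixedPoints P (Fin p → G) :=
    { toFun := fun g => ⟨fun _ => g, fun π => rfl⟩
      invFun := fun x => x.1 0
      left_inv := fun g => rfl
      right_inv := fun x => Subtype.ext (funext fun i => by
        have h := congrFun (x.2 ⟨(r ^ i.val), Subgroup.npow_mem_zpowers r i.val⟩) i
        rw [hact] at h
        have h0 : (r ^ i.val) 0 = i := Fin.ext (by rw [hpow]; simp [Nat.mod_eq_of_lt i.isLt])
        rwa [Equiv.Perm.inv_eq_iff_eq.2 h0.symm] at h) }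
  rw [← e.sum_comp]
  refine Finset.sum_congr rfl fun g _ => ?_
  show w (fun _ => g) = _
  simp only [w, Finset.prod_const, Finset.card_univ, Fintype.card_fin, List.ofFn_const,
    List.prod_replicate]

/-- **A function of the `p'`-part kills nilpotent elements.** -/
theorem sum_eq_zero_of_isNilpotent {F : G → k} (hF : ∀ g h, F (h * g * h⁻¹) = F g)
    (hreg : ∀ u s : G, Commute u s → (∃ j, orderOf u = p ^ j) → ¬ p ∣ orderOf s → F (u * s) = F s)
    (hpart : ∀ g : G, ∃ u s, u * s = g ∧ Commute u s ∧ (∃ j, orderOf u = p ^ j) ∧ ¬ p ∣ orderOf s)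
    {a : k[G]} (ha : IsNilpotent a) : ∑ g : G, a.coeff g * F g = 0 := by
  classical
  have hp := (Fact.out : p.Prime)
  obtain ⟨c, m, hm, hG⟩ :=
    Nat.exists_eq_pow_mul_and_not_dvd (Nat.card_pos (α := G)).ne' p hp.ne_one
  obtain ⟨d, hd⟩ := ha
  have hm0 : m ≠ 0 := fun h => hm (h ▸ dvd_zero p)
  set N := m.totient * (c + d + 1) with hN
  have hφ : 1 ≤ m.totient := Nat.totient_pos.2 (Nat.pos_of_ne_zero hm0)
  have hNge : c + d + 1 ≤ N := Nat.le_mul_of_pos_left _ hφ
  have hd0 : a ^ p ^ N = 0 := by
    refine pow_eq_zero_of_le ?_ hd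
    exact le_trans (le_trans (by omega) hNge) (Nat.lt_pow_self hp.one_lt).le
  have hcong : p ^ N ≡ 1 [MOD m] := by
    rw [hN, pow_mul]
    simpa using (Nat.ModEq.pow (c + d + 1)
      (Nat.ModEq.pow_totient ((hp.coprime_iff_not_dvd).2 hm)))
  -- iterate
  have hiter : ∀ (n : ℕ) (b : k[G]) (f : G → k), (∀ g h, f (h * g * h⁻¹) = f g) →
      ∑ g : G, (b ^ p ^ n).coeff g * f g = ∑ g : G, b.coeff g ^ p ^ n * f (g ^ p ^ n) := by
    intro n
    induction n with
    | zero => intro b f _; simp
    | succ n ih =>
      intro b f hf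
      let L : k[G] →ₗ[k] k :=
        { toFun := fun z => ∑ g : G, z.coeff g * f g
          map_add' := fun x y => by simp [add_mul, Finset.sum_add_distrib]
          map_smul' := fun r x => by simp [Finset.mul_sum, mul_assoc] }
      have hLs : ∀ (g : G) (r : k), L (single g r) = r * f g := fun g r => by
        show ∑ x : G, (single g r).coeff x * f x = _
        rw [Finset.sum_eq_single g]
        · simp
        · intro x _ hx; simp [Finsupp.single_apply, Ne.symm hx]
        · simp
      have hsym : ∀ x y, L (x * y) = L (y * x) := by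
        intro x y
        induction x using MonoidAlgebra.induction_linear with
        | zero => simp
        | add x x' hx hx' => simp [add_mul, mul_add, hx, hx']
        | single g r =>
          induction y using MonoidAlgebra.induction_linear with
          | zero => simp
          | add y y' hy hy' => simp [add_mul, mul_add, hy, hy']
          | single h t =>
            rw [MonoidAlgebra.single_mul_single, MonoidAlgebra.single_mul_single, hLs, hLs,
              mul_comm t r, ← hf (h * g) g, show g * (h * g) * g⁻¹ = g * h by group]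
      rw [show b ^ p ^ (n + 1) = (b ^ p ^ n) ^ p by rw [← pow_mul, ← pow_succ]]
      show L ((b ^ p ^ n) ^ p) = _
      rw [apply_pow_char L hsym]
      simp only [hLs, one_mul]
      let ψ : k[G] →+* k[G] := MonoidAlgebra.mapRingHom G (frobenius k p)
      have hψ : ∀ (z : k[G]) g, (ψ z).coeff g = z.coeff g ^ p := fun z g => by
        simp [ψ, MonoidAlgebra.coeff_mapRingHom, frobenius_def]
      have h1 := ih (ψ b) (fun g => f (g ^ p)) fun g h => by rw [conj_pow, hf]
      simp only [← map_pow ψ, hψ, ← pow_mul] at h1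
      rw [h1]
      exact Finset.sum_congr rfl fun g _ => by rw [mul_comm (p ^ n) p, pow_succ']
  have h0 := hiter N a (fun g => F g ^ p ^ N) fun g h => by rw [hF]
  simp only [hd0, MonoidAlgebra.coeff_zero, Finsupp.coe_zero, Pi.zero_apply, zero_mul,
    Finset.sum_const_zero] at h0
  have hpow : ∀ g : G, F (g ^ p ^ N) = F g := by
    intro g
    obtain ⟨u, s, rfl, hc, ⟨j, hj⟩, hs⟩ := hpart g
    have hu : u ^ p ^ N = 1 := by
      refine orderOf_dvd_iff_pow_eq_one.1 ?_
      rw [hj]
      refine pow_dvd_pow p ?_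
      have h2 : p ^ j ∣ p ^ c * m := hG ▸ hj ▸ orderOf_dvd_natCard u
      have h3 := (((hp.coprime_iff_not_dvd).2 hm).pow_left j).dvd_of_dvd_mul_right h2
      have := (Nat.pow_dvd_pow_iff_le_right hp.one_lt).1 h3
      omega
    have hsm : orderOf s ∣ m := by
      have h2 : orderOf s ∣ p ^ c * m := hG ▸ orderOf_dvd_natCard s
      exact (((hp.coprime_iff_not_dvd).2 hs).pow_left c).symm.dvd_of_dvd_mul_left h2
    have hs' : s ^ p ^ N = s := by
      conv_rhs => rw [← pow_one s]
      rw [pow_eq_pow_iff_modEq]
      exact hcong.of_dvd hsm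
    rw [hc.mul_pow, hu, one_mul, hs', hreg u s hc ⟨j, hj⟩ hs]
  rw [Finset.sum_congr rfl fun g _ => by rw [hpow g, ← mul_pow]] at h0
  rw [← sum_pow_char_pow] at h0
  exact pow_eq_zero_iff (pow_ne_zero _ hp.ne_zero) |>.1 h0.symm

end CfsgLib.Blocks.BrauerBasis
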