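import Cfsg.Agent.Blocks.BrauerBasis.Basis
import Cfsg.Agent.Blocks.Orth.Subsection

/-!
# Class functions carried by one `p`-section and their block parts
-/

set_option autoImplicit false
open Cfsg CfsgLib.Blocks

namespace CfsgLib.Blocks.BrauerBasis

universe u

variable {G : Type u} [Group G] [Fintype G] {p : ℕ} {M : Ideal AlgInt}

/-- Representatives of the classes of `p`-elements, with `1` among them. -/
theorem exists_pElement_reps (hp : p.Prime) :
    ∃ X : Finset G, (1 : G) ∈ X ∧ (∀ x ∈ X, ∃ e : ℕ, orderOf x = p ^ e) ∧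
      ∀ g : G, (∃ e : ℕ, orderOf g = p ^ e) → ∃! x, x ∈ X ∧ IsConj g x := by
  classical
  let S : Finset (ConjClasses G) := Finset.univ.filter fun C => ∃ e : ℕ, orderOf C.out = p ^ e
  have hout : ∀ g : G, IsConj g (ConjClasses.mk g).out := fun g =>
    ConjClasses.mk_eq_mk_iff_isConj.1 (Quotient.out_eq _).symm
  have hord : ∀ g : G, orderOf (ConjClasses.mk g).out = orderOf g := by
    intro g
    obtain ⟨c, hc⟩ := isConj_iff.1 (hout g)
    rw [← hc, show c * g * c⁻¹ = MulAut.conj c g from rfl, MulEquiv.orderOf_eq]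
  refine ⟨S.image fun C => C.out, ?_, ?_, ?_⟩
  · refine Finset.mem_image.2 ⟨ConjClasses.mk 1, Finset.mem_filter.2
      ⟨Finset.mem_univ _, 0, by rw [hord]; simp⟩, ?_⟩
    exact isConj_one_right.1 (hout 1)
  · intro x hx
    obtain ⟨C, hC, rfl⟩ := Finset.mem_image.1 hx
    exact (Finset.mem_filter.1 hC).2
  · rintro g ⟨e, he⟩
    refine ⟨(ConjClasses.mk g).out, ⟨Finset.mem_image.2 ⟨_, Finset.mem_filter.2
      ⟨Finset.mem_univ _, e, by rw [hord, he]⟩, rfl⟩, hout g⟩, ?_⟩
    rintro y ⟨hy, hgy⟩
    obtain ⟨C, -, rfl⟩ := Finset.mem_image.1 hy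
    rw [show ConjClasses.mk g = C from
      (ConjClasses.mk_eq_mk_iff_isConj.2 hgy).trans (Quotient.out_eq C)]

open scoped Classical in
/-- The extension of a function on the regular elements of `C(x)` to the section of `x`. -/
noncomputable def sectionExt (p : ℕ) (x : G)
    (f : Subgroup.centralizer ({x} : Set G) → ℂ) : G → ℂ := fun g =>
  if h : ∃ (a : G) (s : Subgroup.centralizer ({x} : Set G)),
    IsPRegular p s ∧ g = a * (x * (s : G)) * a⁻¹ then f h.choose_spec.choose else 0

theorem isPPart_translate (x : G) (hx : ∃ e : ℕ, orderOf x = p ^ e)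
    {s : Subgroup.centralizer ({x} : Set G)} (hs : IsPRegular p s) (a : G) :
    IsPPart p (a * (x * (s : G)) * a⁻¹) (a * x * a⁻¹) :=
  (isPPart_conj_iff a).2 (isPPart_mul_of_mem rfl hx hs)

theorem sectionExt_apply (hp : p.Prime) (x : G) (hx : ∃ e : ℕ, orderOf x = p ^ e)
    {f : Subgroup.centralizer ({x} : Set G) → ℂ} (hf : IsClassFunction _ f) (a : G)
    {s : Subgroup.centralizer ({x} : Set G)} (hs : IsPRegular p s) :
    sectionExt p x f (a * (x * (s : G)) * a⁻¹) = f s := by
  classical
  have h : ∃ (a' : G) (s' : Subgroup.centralizer ({x} : Set G)),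
      IsPRegular p s' ∧ a * (x * (s : G)) * a⁻¹ = a' * (x * (s' : G)) * a'⁻¹ := ⟨a, s, hs, rfl⟩
  rw [sectionExt, dif_pos h]
  obtain ⟨hs', he⟩ := h.choose_spec.choose_spec
  generalize h.choose_spec.choose = s' at hs' he ⊢
  generalize h.choose = a' at he
  have hu := isPPart_unique hp (isPPart_translate x hx hs a)
    (he ▸ isPPart_translate x hx hs' a')
  have hc : a'⁻¹ * a ∈ Subgroup.centralizer ({x} : Set G) := by
    rw [Subgroup.mem_centralizer_singleton_iff]
    calc a'⁻¹ * a * x = a'⁻¹ * (a * x * a⁻¹) * a := by group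
      _ = a'⁻¹ * (a' * x * a'⁻¹) * a := by rw [hu]
      _ = x * (a'⁻¹ * a) := by group
  have hxc : x * (a'⁻¹ * a) = a'⁻¹ * a * x := (Subgroup.mem_centralizer_singleton_iff.1 hc).symm
  have hs'' : s' = ⟨_, hc⟩ * s * ⟨_, hc⟩⁻¹ := by
    refine Subtype.ext ?_
    show (s' : G) = a'⁻¹ * a * (s : G) * (a'⁻¹ * a)⁻¹
    have h1 : x * (s' : G) = a'⁻¹ * (a * (x * (s : G)) * a⁻¹) * a' := by rw [he]; group
    have h2 : x * (s' : G) = x * (a'⁻¹ * a * (s : G) * (a'⁻¹ * a)⁻¹) := by
      rw [h1, show a'⁻¹ * (a * (x * (s : G)) * a⁻¹) * a' =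
        a'⁻¹ * a * x * (s : G) * (a'⁻¹ * a)⁻¹ by group, ← hxc]
      group
    exact mul_left_cancel h2
  rw [hs'', hf]

theorem sectionExt_eq_zero (x : G) (f : Subgroup.centralizer ({x} : Set G) → ℂ) {g : G}
    (h : ∀ (a : G) (s : Subgroup.centralizer ({x} : Set G)),
      IsPRegular p s → g ≠ a * (x * (s : G)) * a⁻¹) : sectionExt p x f g = 0 := by
  classical
  rw [sectionExt, dif_neg]
  rintro ⟨a, s, hs, he⟩
  exact h a s hs he

theorem sectionExt_eq_zero_of_not_isConj (hp : p.Prime) (x : G)
    (hx : ∃ e : ℕ, orderOf x = p ^ e) (f : Subgroup.centralizer ({x} : Set G) → ℂ) {g u : G}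
    (hu : IsPPart p g u) (hux : ¬ IsConj u x) : sectionExt p x f g = 0 := by
  refine sectionExt_eq_zero x f fun a s hs he => hux ?_
  rw [isPPart_unique hp hu (he ▸ isPPart_translate x hx hs a)]
  exact (isConj_iff.2 ⟨a, rfl⟩).symm

theorem isClassFunction_sectionExt (hp : p.Prime) (x : G) (hx : ∃ e : ℕ, orderOf x = p ^ e)
    {f : Subgroup.centralizer ({x} : Set G) → ℂ} (hf : IsClassFunction _ f) :
    IsClassFunction G (sectionExt p x f) := by
  intro g b
  by_cases h : ∃ (a : G) (s : Subgroup.centralizer ({x} : Set G)),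
      IsPRegular p s ∧ g = a * (x * (s : G)) * a⁻¹
  · obtain ⟨a, s, hs, rfl⟩ := h
    rw [show b * (a * (x * (s : G)) * a⁻¹) * b⁻¹ = b * a * (x * (s : G)) * (b * a)⁻¹ by group,
      sectionExt_apply hp x hx hf _ hs, sectionExt_apply hp x hx hf _ hs]
  · rw [sectionExt_eq_zero x f fun a s hs he => h ⟨a, s, hs, he⟩,
      sectionExt_eq_zero x f fun a s hs he => h ⟨b⁻¹ * a, s, hs, ?_⟩]
    calc g = b⁻¹ * (b * g * b⁻¹) * b := by group
      _ = _ := by rw [he]; group

open scoped Classical in
/-- The block part of a class function on a section is the sum of the block parts of the blocks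
of the centralizer which induce the block. -/
theorem blockPart_section [M.IsMaximal] (hM : IsPModular p M) {B : Set (IrrCharacter G)}
    (hB : IsPBlock M B) {x : G} (hx : ∃ e : ℕ, orderOf x = p ^ e)
    (S : Finset (Set (IrrCharacter (Subgroup.centralizer ({x} : Set G)))))
    (hS : ∀ b, b ∈ S ↔ IsInducedBlock M (Subgroup.centralizer ({x} : Set G)) b B)
    {f : G → ℂ} (hf : IsClassFunction G f) (s : Subgroup.centralizer ({x} : Set G))
    (hs : IsPRegular p s) :
    blockPart B f (x * (s : G)) =
      ∑ b ∈ S, blockPart b (fun c : Subgroup.centralizer ({x} : Set G) => f (x * (c : G))) s := by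
  haveI := CfsgLib.Blocks.finite_irrCharacter (G := Subgroup.centralizer ({x} : Set G))
  haveI := Fintype.ofFinite (IrrCharacter (Subgroup.centralizer ({x} : Set G)))
  have hχ : ∀ χ : IrrCharacter G,
      ∑ b ∈ S, blockPart b (fun c : Subgroup.centralizer ({x} : Set G) => (χ : G → ℂ) (x * (c : G))) s =
        if χ ∈ B then (χ : G → ℂ) (x * (s : G)) else 0 := by
    intro χ
    let blocks : Finset (Set (IrrCharacter (Subgroup.centralizer ({x} : Set G)))) :=
      Finset.univ.image fun ψ : IrrCharacter (Subgroup.centralizer ({x} : Set G)) => blockOf M (ψ : Subgroup.centralizer ({x} : Set G) → ℂ)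
    have hblocks : ∀ b ∈ blocks, IsPBlock M b := by
      intro b hb
      obtain ⟨ψ, _, rfl⟩ := Finset.mem_image.1 hb
      exact ⟨ψ, rfl⟩
    have hSsub : S ⊆ blocks := fun b hb => by
      obtain ⟨ψ, hψ⟩ := ((hS b).1 hb).1
      exact Finset.mem_image.2 ⟨ψ, Finset.mem_univ _, hψ.symm⟩
    by_cases hχB : χ ∈ B
    · rw [if_pos hχB]
      have hdec : (χ : G → ℂ) (x * (s : G)) =
          ∑ b ∈ blocks, blockPart b (fun c : Subgroup.centralizer ({x} : Set G) => (χ : G → ℂ) (x * (c : G))) s := by
        refine (Chars.eq_sum_classInner_mul (isClassFunction_translate rfl χ) s).trans ?_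
        rw [
          ← Finset.sum_fiberwise_of_maps_to (g := fun ψ : IrrCharacter (Subgroup.centralizer ({x} : Set G)) => blockOf M (ψ : Subgroup.centralizer ({x} : Set G) → ℂ))
            (t := blocks) (fun ψ _ => Finset.mem_image_of_mem _ (Finset.mem_univ ψ))]
        refine Finset.sum_congr rfl fun b hb => ?_
        rw [blockPart_apply_eq, Finset.sum_apply]
        refine Finset.sum_congr ?_ fun ψ _ => rfl
        ext ψ
        simp only [Finset.mem_filter, Finset.mem_univ, true_and, Set.Finite.mem_toFinset]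
        exact ⟨fun h => h ▸ self_mem_blockOf ψ, fun h => (eq_blockOf_of_mem (hblocks b hb) h).symm⟩
      rw [hdec]
      exact Finset.sum_subset hSsub fun b hb hbS =>
        blockPart_section_eq_zero hM rfl hx (hblocks b hb) hB (fun h => hbS ((hS b).2 h)) hχB hs
    · rw [if_neg hχB]
      refine Finset.sum_eq_zero fun b hb => ?_
      have hind := (hS b).1 hb
      refine blockPart_section_eq_zero hM rfl hx hind.1 ⟨χ, rfl⟩ (fun h => hχB ?_)
        (self_mem_blockOf χ) hs
      rw [isInducedBlock_unique hM hind h]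
      exact self_mem_blockOf χ
  have hfx : (fun c : Subgroup.centralizer ({x} : Set G) => f (x * (c : G))) =
      ∑ χ : IrrCharacter G, classInner f (χ : G → ℂ) • fun c : Subgroup.centralizer ({x} : Set G) => (χ : G → ℂ) (x * (c : G)) := by
    funext c
    rw [Finset.sum_apply]
    simp only [Pi.smul_apply, smul_eq_mul]
    exact Chars.eq_sum_classInner_mul hf _
  have hlin : ∀ b : Set (IrrCharacter (Subgroup.centralizer ({x} : Set G))), blockPart b (fun c : Subgroup.centralizer ({x} : Set G) => f (x * (c : G))) s =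
      ∑ χ : IrrCharacter G, classInner f (χ : G → ℂ) *
        blockPart b (fun c : Subgroup.centralizer ({x} : Set G) => (χ : G → ℂ) (x * (c : G))) s := by
    intro b
    rw [hfx]
    simp only [blockPart_apply_eq, Chars.classInner_sum_left, Chars.classInner_smul_left,
      Finset.sum_apply, Pi.smul_apply, smul_eq_mul, Finset.sum_mul, Finset.mul_sum]
    rw [Finset.sum_comm]
    exact Finset.sum_congr rfl fun _ _ => Finset.sum_congr rfl fun _ _ => by ring
  rw [Finset.sum_congr rfl fun b _ => hlin b, Finset.sum_comm]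
  rw [blockPart_apply_eq, Finset.sum_apply]
  simp only [← Finset.mul_sum, hχ, mul_ite, mul_zero, Pi.smul_apply, smul_eq_mul]
  rw [← Finset.sum_filter]
  exact Finset.sum_congr (by ext; simp) fun _ _ => rfl

/-- On a regular element a block part only depends on the regular values. -/
theorem blockPart_congr_regular {H : Type u} [Group H] [Fintype H] (hM : IsPModular p M)
    {b : Set (IrrCharacter H)} (hb : IsPBlock M b) {f f' : H → ℂ}
    (h : ∀ c, IsPRegular p c → f c = f' c) {s : H} (hs : IsPRegular p s) :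
    blockPart b f s = blockPart b f' s := by
  have e : ∀ f : H → ℂ, blockPart b f s = blockPart b (pRegularPart p f) s := by
    intro f
    rw [blockPart_pRegularPart hM hb]
    simp [pRegularPart, hs]
  rw [e f, e f']
  refine congrArg (fun F => blockPart b F s) (funext fun c => ?_)
  unfold pRegularPart
  split_ifs with hc
  · exact h c hc
  · rfl

end CfsgLib.Blocks.BrauerBasis
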