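import Cfsg.Agent.Blocks.BrauerBasis.Frobenius
import Cfsg.Agent.Blocks.Star.AlgTraced
import Cfsg.Agent.Blocks.Defect.Idempotents
import Cfsg.Agent.Blocks.Orth.Subsection

/-!
# The traces of the simple modules of a group algebra

Over an algebraically closed field of characteristic `p` the traces of the simple modules form a
basis of the functions on the `p`-regular classes; every automorphism of the group permutes them
and each one is carried by a single block idempotent.
-/

set_option autoImplicit false
open scoped MonoidAlgebra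
open MonoidAlgebra (single)
open Cfsg CfsgLib.Blocks

namespace CfsgLib.Blocks.BrauerBasis

universe u v

variable {k : Type v} [Field k] [IsAlgClosed k] {p : ℕ} [Fact p.Prime] [CharP k p]
variable {G : Type u} [Group G] [Fintype G]

/-- The `p'`-part as a class map. -/
theorem exists_regular_part :
    ∃ r : G → G, (∀ g h, r (h * g * h⁻¹) = h * r g * h⁻¹) ∧
      (∀ g, IsPRegular p (r g)) ∧ (∀ g, IsPRegular p g → r g = g) ∧
      (∀ u s : G, Commute u s → (∃ j, orderOf u = p ^ j) → ¬ p ∣ orderOf s → r (u * s) = s) := by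
  have hp := (Fact.out : p.Prime)
  obtain ⟨e, he⟩ := exists_pow_eq_isPPart (G := G) hp
  have hval : ∀ u s : G, Commute u s → (∃ j, orderOf u = p ^ j) → ¬ p ∣ orderOf s →
      ((u * s) ^ e)⁻¹ * (u * s) = s := by
    intro u s hc hu hs
    rw [he (u * s) u ⟨s, rfl, hc, hu, hs⟩, inv_mul_cancel_left]
  refine ⟨fun g => (g ^ e)⁻¹ * g, fun g h => ?_, fun g => ?_, fun g hg => ?_, hval⟩
  · simp only [conj_pow]; group
  · obtain ⟨u, w, hw, hc, hu, hr⟩ := exists_isPPart (G := G) hp g
    show ¬ p ∣ orderOf ((g ^ e)⁻¹ * g)
    rw [← hw, hval u w hc hu hr]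
    exact hr
  · have := hval 1 g (Commute.one_left g) ⟨0, by simp⟩ hg
    simpa using this

variable {n : ℕ} {d : Fin n → ℕ} [∀ c, NeZero (d c)]

omit [IsAlgClosed k] [Fact p.Prime] [CharP k p] in
/-- A central idempotent is zero or one in every factor. -/
theorem apply_eq_zero_or_one (f : k[G] →ₐ[k] MatsOf k d) (hf : Function.Surjective f) {e : k[G]}
    (hec : ∀ a, e * a = a * e) (hee : e * e = e) (c : Fin n) : f e c = 0 ∨ f e c = 1 := by
  classical
  have hcomm : ∀ m : Matrix (Fin (d c)) (Fin (d c)) k, f e c * m = m * f e c := by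
    intro m
    obtain ⟨a, ha⟩ := hf (Pi.single c m)
    have h := congrArg (fun z : MatsOf k d => z c) (congrArg f (hec a))
    simpa [ha] using h
  obtain ⟨r, hr⟩ := Matrix.mem_range_scalar_of_commute_single (M := f e c)
    (fun i j _ => (hcomm (Matrix.single i j 1)).symm)
  have hr2 : r * r = r := by
    have h := congrArg (fun z : MatsOf k d => z c 0 0) (congrArg f hee)
    simp only [map_mul, Pi.mul_apply] at h
    rw [← hr] at h
    simpa using h
  rcases IsIdempotentElem.iff_eq_zero_or_one.1 (hr2 : IsIdempotentElem r) with h | h <;>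
    simp [← hr, h]

/-- **The traces of the simple modules.** -/
theorem exists_simples : ∃ (n : ℕ) (t : Fin n → G → k) (e : Fin n → k[G]),
    (∀ i g h, t i (h * g * h⁻¹) = t i g) ∧
    (∀ i, IsBlockIdem ⊤ (e i)) ∧
    (∀ i (ε : k[G]), IsBlockIdem ⊤ ε → ∀ g,
      (ε = e i → ∑ h : G, ε.coeff h * t i (h * g) = t i g) ∧
      (ε ≠ e i → ∑ h : G, ε.coeff h * t i (h * g) = 0)) ∧
    (∀ a : Fin n → k, (∀ g, IsPRegular p g → ∑ i, a i * t i g = 0) → a = 0) ∧
    (∀ F : G → k, (∀ g h, F (h * g * h⁻¹) = F g) →
      ∃ a : Fin n → k, ∀ g, IsPRegular p g → F g = ∑ i, a i * t i g) ∧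
    (∀ α : G ≃* G, ∃ π : Equiv.Perm (Fin n), ∀ i g, t i (α g) = t (π i) g) := by
  classical
  have hp := (Fact.out : p.Prime)
  haveI : FiniteDimensional k k[G] :=
    Module.Finite.equiv (MonoidAlgebra.coeffLinearEquiv k (M := G)).symm
  obtain ⟨n, d, f, hd, hf, hker⟩ := exists_mats_hom (k := k) (A := k[G])
  let T : Fin n → k[G] →ₗ[k] k := fun c =>
    (Matrix.traceLinearMap (Fin (d c)) k k).comp ((LinearMap.proj c).comp f.toLinearMap)
  have hT : ∀ c a, T c a = (f a c).trace := fun _ _ => rfl
  have hTsym : ∀ c a b, T c (a * b) = T c (b * a) := fun c a b => by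
    rw [hT, hT, map_mul, map_mul, Pi.mul_apply, Pi.mul_apply, Matrix.trace_mul_comm]
  have hexp : ∀ a : k[G], a = ∑ g : G, a.coeff g • single g (1 : k) := fun a => by
    refine MonoidAlgebra.ext (Finsupp.ext fun x => ?_)
    rw [MonoidAlgebra.coeff_sum, Finsupp.finsetSum_apply, Finset.sum_eq_single x]
    · simp
    · intro b _ hb
      simp [Finsupp.single_apply, hb]
    · simp
  have hlin : ∀ (L : k[G] →ₗ[k] k) a, L a = ∑ g : G, a.coeff g * L (single g 1) := fun L a => by
    conv_lhs => rw [hexp a]
    rw [map_sum]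
    exact Finset.sum_congr rfl fun g _ => by rw [map_smul, smul_eq_mul]
  let t : Fin n → G → k := fun c g => T c (single g 1)
  -- traces only see the regular part
  have htreg : ∀ c (u s : G), Commute u s → (∃ j, orderOf u = p ^ j) → t c (u * s) = t c s := by
    intro c u s hc ⟨j, hj⟩
    let π := (Pi.evalAlgHom k (fun c => Matrix (Fin (d c)) (Fin (d c)) k) c).comp f
    show (π (single (u * s) 1)).trace = (π (single s 1)).trace
    have e1 : single (u * s) (1 : k) = single u 1 * single s 1 := by
      rw [MonoidAlgebra.single_mul_single, mul_one]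
    have hus : Commute (single u (1 : k)) (single s 1) := by
      show _ * _ = _ * _
      rw [MonoidAlgebra.single_mul_single, MonoidAlgebra.single_mul_single, hc.eq]
    have hnil : IsNilpotent (π (single u 1 * single s 1) - π (single s 1)) := by
      have e : π (single u 1 * single s 1) - π (single s 1) =
          (π (single u 1) - 1) * π (single s 1) := by rw [map_mul, sub_mul, one_mul]
      rw [e]
      refine (hus.map π).sub_left (Commute.one_left _) |>.isNilpotent_mul_right ⟨p ^ j, ?_⟩
      rw [sub_pow_char_pow_of_commute (p := p) (n := j) (Commute.one_right _), ← map_pow,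
        MonoidAlgebra.single_pow, one_pow, ← hj, pow_orderOf_eq_one, ← MonoidAlgebra.one_def,
        map_one, one_pow, sub_self]
    have := (Matrix.isNilpotent_trace_of_isNilpotent hnil).eq_zero
    rw [e1]
    rwa [Matrix.trace_sub, sub_eq_zero] at this
  -- the block of a factor
  have hblk : ∀ c, ∃ ε, IsBlockIdem ⊤ ε ∧ f ε c = 1 ∧
      ∀ ε', IsBlockIdem ⊤ ε' → ε' ≠ ε → f ε' c = 0 := by
    intro c
    have h01 : ∀ ε, IsBlockIdem (⊤ : Subgroup G) ε → f ε c = 0 ∨ f ε c = 1 := fun ε hε =>
      apply_eq_zero_or_one f hf (fun a => (commute_of_isFixedBy (isSupportedOn_top a) hε.1.2).symm.eq)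
        hε.idem c
    obtain ⟨ε, hε, hεc⟩ : ∃ ε ∈ blockIdems k (⊤ : Subgroup G), f ε c ≠ 0 := by
      by_contra hcon
      simp only [not_exists, not_and, not_not] at hcon
      have h := congrArg (fun z : MatsOf k d => z c) (congrArg f (sum_blockIdems (k := k) (⊤ : Subgroup G)))
      simp only [map_sum, Finset.sum_apply, map_one, Pi.one_apply] at h
      rw [Finset.sum_eq_zero hcon] at h
      exact zero_ne_one h
    rw [mem_blockIdems] at hε
    have h1 := (h01 ε hε).resolve_left hεc
    refine ⟨ε, hε, h1, fun ε' hε' hne => ?_⟩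
    have h := congrArg (fun z : MatsOf k d => z c) (congrArg f (hε'.orthogonal hε hne))
    simpa [h1] using h
  choose e he hec he0 using hblk
  refine ⟨n, t, e, ?_, he, ?_, ?_, ?_, ?_⟩
  · intro c g h
    show T c (single (h * g * h⁻¹) 1) = T c (single g 1)
    rw [show single (h * g * h⁻¹) (1 : k) = single h 1 * single (g * h⁻¹) 1 by
      rw [MonoidAlgebra.single_mul_single, mul_one, mul_assoc], hTsym,
      MonoidAlgebra.single_mul_single, mul_one, inv_mul_cancel_right]
  · intro c ε hε g
    have key : ∑ h : G, ε.coeff h * t c (h * g) = (f ε c * f (single g 1) c).trace := by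
      rw [← Pi.mul_apply, ← map_mul, ← hT]
      conv_rhs => rw [hexp ε]
      rw [Finset.sum_mul, map_sum]
      refine Finset.sum_congr rfl fun h _ => ?_
      rw [smul_mul_assoc, map_smul, MonoidAlgebra.single_mul_single, mul_one, smul_eq_mul]
    refine ⟨fun h => ?_, fun h => ?_⟩
    · subst h; rw [key, hec, one_mul]; rfl
    · rw [key, he0 c ε hε h, zero_mul, Matrix.trace_zero]
  · intro a ha
    have hall : ∀ g, ∑ i, a i * t i g = 0 := by
      intro g
      obtain ⟨u, w, hw, hc, hu, hr⟩ := exists_isPPart (G := G) hp g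
      rw [← hw, ← ha w hr]
      exact Finset.sum_congr rfl fun i _ => by rw [htreg i u w hc hu]
    funext c
    obtain ⟨x, hx⟩ := hf (unitAt c)
    have h : ∑ i, a i * T i x = 0 := by
      simp only [fun i => hlin (T i) x, Finset.mul_sum]
      rw [Finset.sum_comm]
      refine Finset.sum_eq_zero fun g _ => ?_
      rw [Finset.sum_congr rfl fun i _ => mul_left_comm _ _ _, ← Finset.mul_sum]
      exact mul_eq_zero_of_right _ (hall g)
    simp only [hT, hx, trace_unitAt] at h
    simpa using h
  · intro F hF
    obtain ⟨r, hrconj, hrreg, hrid, hrval⟩ := exists_regular_part (G := G) (p := p)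
    let F' : G → k := fun g => F (r g)
    have hF' : ∀ g h, F' (h * g * h⁻¹) = F' g := fun g h => by simp only [F', hrconj, hF]
    let L : k[G] →ₗ[k] k :=
      { toFun := fun z => ∑ g : G, z.coeff g * F' g
        map_add' := fun x y => by simp [add_mul, Finset.sum_add_distrib]
        map_smul' := fun r x => by simp [Finset.mul_sum, mul_assoc] }
    have hLs : ∀ g, L (single g 1) = F' g := fun g => by
      show ∑ x : G, (single g (1 : k)).coeff x * F' x = _
      rw [Finset.sum_eq_single g]
      · simp
      · intro x _ hx; simp [Finsupp.single_apply, Ne.symm hx]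
      · simp
    have hL0 : ∀ x, f x = 0 → L x = 0 := fun x hx =>
      sum_eq_zero_of_isNilpotent (p := p) hF'
        (fun u s hc hu hs => by
          simp only [F', hrval u s hc hu hs, hrid s hs])
        (fun g => by
          obtain ⟨u, w, hw, hc, hu, hr⟩ := exists_isPPart (G := G) hp g
          exact ⟨u, w, hw, hc, hu, hr⟩) (hker x hx)
    have hLsym : ∀ x y, L (x * y) = L (y * x) := by
      intro x y
      induction x using MonoidAlgebra.induction_linear with
      | zero => simp
      | add x x' hx hx' => simp [add_mul, mul_add, hx, hx']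
      | single g r =>
        induction y using MonoidAlgebra.induction_linear with
        | zero => simp
        | add y y' hy hy' => simp [add_mul, mul_add, hy, hy']
        | single h s =>
          rw [MonoidAlgebra.single_mul_single, MonoidAlgebra.single_mul_single,
            show single (g * h) (r * s) = (r * s) • single (g * h) (1 : k) by simp,
            show single (h * g) (s * r) = (s * r) • single (h * g) (1 : k) by simp,
            map_smul, map_smul, hLs, hLs, mul_comm r s, ← hF' (h * g) g,
            show g * (h * g) * g⁻¹ = g * h by group]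
    obtain ⟨sec, hsec⟩ := f.toLinearMap.exists_rightInverse_of_surjective (LinearMap.range_eq_top.2 hf)
    have hsec' : ∀ z, f (sec z) = z := fun z => LinearMap.congr_fun hsec z
    have hwd : ∀ x, L (sec (f x)) = L x := fun x => by
      rw [← sub_eq_zero, ← map_sub]
      exact hL0 _ (by rw [map_sub, hsec', sub_self])
    have hsymD : ∀ z w, (L.comp sec) (z * w) = (L.comp sec) (w * z) := fun z w => by
      obtain ⟨x, rfl⟩ := hf z
      obtain ⟨y, rfl⟩ := hf w
      rw [← map_mul, ← map_mul, LinearMap.comp_apply, LinearMap.comp_apply, hwd, hwd, hLsym]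
    refine ⟨fun c => L (sec (unitAt c)), fun g hg => ?_⟩
    have h := traceLike_eq_sum (L.comp sec) hsymD (f (single g 1))
    rw [LinearMap.comp_apply, hwd, hLs] at h
    rw [show F g = F' g by simp only [F', hrid g hg], h]
    exact Finset.sum_congr rfl fun c _ => mul_comm _ _
  · intro α
    let σ : k[G] ≃ₐ[k] k[G] := MonoidAlgebra.domCongr k k α
    let s := Function.surjInv hf
    have hs : ∀ z, f (s z) = z := Function.surjInv_eq hf
    have hwd : ∀ (τ : k[G] ≃ₐ[k] k[G]) (x y : k[G]), f x = f y → f (τ x) = f (τ y) := fun τ x y h => by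
      rw [← sub_eq_zero, ← map_sub, ← map_sub]
      exact map_ker_stable f hf hker τ (by rw [map_sub, h, sub_self])
    let dsc : (k[G] ≃ₐ[k] k[G]) → (MatsOf k d →ₐ[k] MatsOf k d) := fun τ =>
      { toFun := fun z => f (τ (s z))
        map_one' := by rw [hwd τ (s 1) 1 (by rw [hs, map_one]), map_one, map_one]
        map_mul' := fun z w => by
          rw [hwd τ (s (z * w)) (s z * s w) (by rw [hs, map_mul, hs, hs]), map_mul, map_mul]
        map_zero' := by rw [hwd τ (s 0) 0 (by rw [hs, map_zero]), map_zero, map_zero]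
        map_add' := fun z w => by
          rw [hwd τ (s (z + w)) (s z + s w) (by rw [hs, map_add, hs, hs]), map_add, map_add]
        commutes' := fun r => by
          rw [hwd τ (s (algebraMap k _ r)) (algebraMap k k[G] r) (by rw [hs, AlgHom.commutes]),
            AlgEquiv.commutes, AlgHom.commutes] }
    have hdsc : ∀ τ x, dsc τ (f x) = f (τ x) := fun τ x => hwd τ _ _ (hs _)
    have hcancel : ∀ τ : k[G] ≃ₐ[k] k[G], ∀ z, dsc τ.symm (dsc τ z) = z := fun τ z => by
      obtain ⟨x, rfl⟩ := hf z
      rw [hdsc, hdsc, AlgEquiv.symm_apply_apply]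
    have hcancel' : ∀ τ : k[G] ≃ₐ[k] k[G], ∀ z, dsc τ (dsc τ.symm z) = z := fun τ z => by
      obtain ⟨x, rfl⟩ := hf z
      rw [hdsc, hdsc, AlgEquiv.apply_symm_apply]
    choose π X Y hXY hYX using exists_unitAt_image (dsc σ) (dsc σ.symm) (hcancel σ) (hcancel' σ)
    have hTc : ∀ z c, ((dsc σ z) c).trace = ∑ i, (z i).trace * (if π i = c then 1 else 0) := by
      intro z c
      have h := traceLike_eq_sum (((Matrix.traceLinearMap (Fin (d c)) k k).comp
        (LinearMap.proj c)).comp (dsc σ).toLinearMap) (fun x y => by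
          show (dsc σ (x * y) c).trace = (dsc σ (y * x) c).trace
          rw [map_mul, map_mul, Pi.mul_apply, Pi.mul_apply, Matrix.trace_mul_comm]) z
      refine h.trans (Finset.sum_congr rfl fun i _ => ?_)
      congr 1
      show (dsc σ (unitAt i) c).trace = _
      rw [← hXY i, Pi.mul_apply, Matrix.trace_mul_comm, ← Pi.mul_apply, hYX i, trace_unitAt]
      simp only [eq_comm]
    have hinj : Function.Injective π := by
      intro i j hij
      by_contra hne
      obtain ⟨c, hc⟩ : ∃ c, c = i := ⟨i, rfl⟩
      let L : MatsOf k d →ₗ[k] k := ((Matrix.traceLinearMap (Fin (d c)) k k).comp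
        (LinearMap.proj c)).comp (dsc σ.symm).toLinearMap
      have hL : ∀ m, L (dsc σ (unitAt m)) = if c = m then 1 else 0 := fun m => by
        show ((dsc σ.symm) (dsc σ (unitAt m)) c).trace = _
        rw [hcancel, trace_unitAt]
      have hLs : ∀ x y, L (x * y) = L (y * x) := fun x y => by
        show (dsc σ.symm (x * y) c).trace = (dsc σ.symm (y * x) c).trace
        rw [map_mul, map_mul, Pi.mul_apply, Pi.mul_apply, Matrix.trace_mul_comm]
      have hrep : ∀ m, L (dsc σ (unitAt m)) = L (unitAt (π m)) := fun m => by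
        rw [← hXY m, hLs, hYX m]
      have h1 := hL i
      have h2 := hL j
      rw [hrep, hij, ← hrep j, h2, if_pos hc, if_neg (fun h => hne (hc.symm.trans h))] at h1
      exact zero_ne_one h1
    let Pm : Equiv.Perm (Fin n) := Equiv.ofBijective π (Finite.injective_iff_bijective.1 hinj)
    refine ⟨Pm.symm, fun c g => ?_⟩
    have hσ : σ (single g 1) = single (α g) 1 := MonoidAlgebra.domCongr_single α g 1
    show (f (single (α g) 1) c).trace = (f (single g 1) (Pm.symm c)).trace
    rw [← hσ, ← hdsc, hTc, Finset.sum_eq_single (Pm.symm c)]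
    · rw [if_pos (show π (Pm.symm c) = c from Pm.apply_symm_apply c), mul_one]
    · intro i _ hi
      rw [if_neg (fun h => hi (by rw [← h]; exact (Pm.symm_apply_apply i).symm)), mul_zero]
    · exact fun h => absurd (Finset.mem_univ _) h

end CfsgLib.Blocks.BrauerBasis
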